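import Mathlib.Algebra.Central.Basic
import Mathlib.Algebra.Central.Matrix
import Mathlib.Algebra.Azumaya.Defs
import Mathlib.LinearAlgebra.TensorProduct.Basis
import Mathlib.RingTheory.SimpleRing.Congr
import Mathlib.RingTheory.SimpleRing.Matrix
import Mathlib.RingTheory.TensorProduct.Finite
import Mathlib.RingTheory.Flat.Basic
import Mathlib.LinearAlgebra.FiniteDimensional.Lemmas
import Mathlib.LinearAlgebra.FreeModule.Finite.Matrix
import Mathlib.LinearAlgebra.Dimension.Constructions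

/-!
# Tensor products with central simple algebras
-/

open scoped TensorProduct

namespace GrothLib.CSA

variable {k : Type*} [Field k] {A : Type*} [Ring A] [Algebra k A]
  {B : Type*} [Ring B] [Algebra k B]

section coord

variable {ι : Type*} [DecidableEq ι] (b : Module.Basis ι k A)

/-- coordinate of `x` in `A ⊗ B` at `i` -/
noncomputable def crd (x : A ⊗[k] B) (i : ι) : B :=
  TensorProduct.equivFinsuppOfBasisLeft b x i

theorem crd_tmul (a : A) (c : B) (i : ι) : crd b (a ⊗ₜ[k] c) i = b.repr a i • c := by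
  simp [crd]

theorem crd_add (x y : A ⊗[k] B) (i : ι) : crd b (x + y) i = crd b x i + crd b y i := by
  simp [crd]

theorem crd_sub (x y : A ⊗[k] B) (i : ι) : crd b (x - y) i = crd b x i - crd b y i := by
  simp [crd]

theorem crd_zero (i : ι) : crd b (0 : A ⊗[k] B) i = 0 := by
  simp [crd]

theorem crd_left (c : B) (x : A ⊗[k] B) (i : ι) :
    crd b ((1 ⊗ₜ[k] c) * x) i = c * crd b x i := by
  induction x with
  | zero => simp [crd_zero]
  | tmul a d => simp [crd_tmul]
  | add y z hy hz => simp [mul_add, crd_add, hy, hz]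

theorem crd_right (c : B) (x : A ⊗[k] B) (i : ι) :
    crd b (x * (1 ⊗ₜ[k] c)) i = crd b x i * c := by
  induction x with
  | zero => simp [crd_zero]
  | tmul a d => simp [crd_tmul]
  | add y z hy hz => simp [add_mul, crd_add, hy, hz]

theorem crd_ext {x y : A ⊗[k] B} (h : ∀ i, crd b x i = crd b y i) : x = y :=
  (TensorProduct.equivFinsuppOfBasisLeft (N := B) b).injective (Finsupp.ext h)

theorem exists_eq_tmul_one {x : A ⊗[k] B} (h : ∀ i, crd b x i ∈ (algebraMap k B).range) :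
    ∃ a : A, x = a ⊗ₜ[k] (1 : B) := by
  classical
  choose r hr using h
  let s := (TensorProduct.equivFinsuppOfBasisLeft (N := B) b x).support
  refine ⟨∑ i ∈ s, r i • b i, crd_ext b fun i => ?_⟩
  rw [crd_tmul, map_sum, Finsupp.finsetSum_apply]
  simp only [map_smul, Finsupp.smul_apply, Module.Basis.repr_self, Finsupp.single_apply,
    smul_eq_mul, mul_ite, mul_one, mul_zero, Finset.sum_ite_eq']
  by_cases hi : i ∈ s
  · rw [if_pos hi, ← hr i, Algebra.algebraMap_eq_smul_one]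
  · rw [if_neg hi, zero_smul]
    exact Finsupp.notMem_support_iff.mp hi

end coord

/-- An element of `A ⊗ B` commuting with `1 ⊗ B` lies in `A ⊗ 1` if `B` is central. -/
theorem exists_eq_tmul_one_of_commute [Algebra.IsCentral k B] {x : A ⊗[k] B}
    (h : ∀ c : B, (1 ⊗ₜ[k] c) * x = x * (1 ⊗ₜ[k] c)) : ∃ a : A, x = a ⊗ₜ[k] (1 : B) := by
  classical
  let b := Module.Basis.ofVectorSpace k A
  refine exists_eq_tmul_one b fun i => ?_
  have hc : crd b x i ∈ Subalgebra.center k B := Subalgebra.mem_center_iff.mpr fun c => by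
    rw [← crd_left, ← crd_right, h]
  obtain ⟨r, hr⟩ := (Algebra.IsCentral.mem_center_iff k).mp hc
  exact ⟨r, hr.symm⟩

/-- A non-zero two-sided ideal of `A ⊗ B`, `B` central simple, meets `A ⊗ 1`. -/
theorem exists_tmul_one_mem [Algebra.IsCentral k B] [IsSimpleRing B]
    (I : TwoSidedIdeal (A ⊗[k] B)) (hI : I ≠ ⊥) :
    ∃ a : A, a ⊗ₜ[k] (1 : B) ∈ I ∧ a ⊗ₜ[k] (1 : B) ≠ 0 := by
  classical
  let b := Module.Basis.ofVectorSpace k A
  let e := TensorProduct.equivFinsuppOfBasisLeft (N := B) b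
  have hex : ∃ n, ∃ x ∈ I, x ≠ 0 ∧ (e x).support.card = n := by
    obtain ⟨x, hx, hx'⟩ := SetLike.exists_of_lt (bot_lt_iff_ne_bot.mpr hI : ⊥ < I)
    exact ⟨_, x, hx, by simpa [TwoSidedIdeal.mem_bot] using hx', rfl⟩
  obtain ⟨x₀, hx₀, hx₀0, hn⟩ := Nat.find_spec hex
  have hsne : (e x₀).support.Nonempty := by
    simpa [Finset.nonempty_iff_ne_empty] using hx₀0
  obtain ⟨i₀, hi₀⟩ := hsne
  let T : TwoSidedIdeal B := TwoSidedIdeal.mk'
    {c | ∃ x ∈ I, (e x).support ⊆ (e x₀).support ∧ crd b x i₀ = c}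
    ⟨0, I.zero_mem, by simp, crd_zero b _⟩
    (by
      rintro _ _ ⟨x, hx, hs, rfl⟩ ⟨y, hy, ht, rfl⟩
      refine ⟨x + y, I.add_mem hx hy, ?_, crd_add b _ _ _⟩
      rw [map_add]
      exact Finsupp.support_add.trans (Finset.union_subset hs ht))
    (by
      rintro _ ⟨x, hx, hs, rfl⟩
      refine ⟨-x, I.neg_mem hx, by simpa using hs, by simp [crd]⟩)
    (by
      rintro c _ ⟨x, hx, hs, rfl⟩
      refine ⟨(1 ⊗ₜ[k] c) * x, I.mul_mem_left _ _ hx, fun i hi => hs ?_, crd_left b c x i₀⟩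
      simp only [Finsupp.mem_support_iff] at hi ⊢
      intro h
      apply hi
      show crd b ((1 ⊗ₜ[k] c) * x) i = 0
      rw [crd_left, show crd b x i = 0 from h, mul_zero])
    (by
      rintro _ c ⟨x, hx, hs, rfl⟩
      refine ⟨x * (1 ⊗ₜ[k] c), I.mul_mem_right _ _ hx, fun i hi => hs ?_, crd_right b c x i₀⟩
      simp only [Finsupp.mem_support_iff] at hi ⊢
      intro h
      apply hi
      show crd b (x * (1 ⊗ₜ[k] c)) i = 0
      rw [crd_right, show crd b x i = 0 from h, zero_mul])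
  have h1 : (1 : B) ∈ T := by
    refine IsSimpleRing.one_mem_of_ne_zero_mem T (x := crd b x₀ i₀) ?_ ?_
    · exact Finsupp.mem_support_iff.mp hi₀
    · rw [TwoSidedIdeal.mem_mk']
      exact ⟨x₀, hx₀, subset_rfl, rfl⟩
  rw [TwoSidedIdeal.mem_mk'] at h1
  obtain ⟨x, hx, hs, hxi⟩ := h1
  have hx0 : x ≠ 0 := fun h => by simp [h, crd_zero] at hxi
  have hcomm : ∀ c : B, (1 ⊗ₜ[k] c) * x = x * (1 ⊗ₜ[k] c) := by
    intro c
    by_contra hne
    refine Nat.find_min hex (m := (e ((1 ⊗ₜ[k] c) * x - x * (1 ⊗ₜ[k] c))).support.card) ?_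
      ⟨_, I.sub_mem (I.mul_mem_left _ _ hx) (I.mul_mem_right _ _ hx), sub_ne_zero.mpr hne, rfl⟩
    rw [← hn]
    refine Finset.card_lt_card ((Finset.ssubset_iff_of_subset fun i hi => hs ?_).mpr
      ⟨i₀, hi₀, ?_⟩)
    · simp only [Finsupp.mem_support_iff] at hi ⊢
      intro h
      apply hi
      show crd b ((1 ⊗ₜ[k] c) * x - x * (1 ⊗ₜ[k] c)) i = 0
      rw [crd_sub, crd_left, crd_right, show crd b x i = 0 from h, zero_mul, mul_zero, sub_zero]
    · rw [Finsupp.notMem_support_iff]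
      show crd b ((1 ⊗ₜ[k] c) * x - x * (1 ⊗ₜ[k] c)) i₀ = 0
      rw [crd_sub, crd_left, crd_right, hxi, mul_one, one_mul, sub_self]
  obtain ⟨a, rfl⟩ := exists_eq_tmul_one_of_commute hcomm
  exact ⟨a, hx, hx0⟩

/-- The ideal `{a | a ⊗ 1 ∈ I}`. -/
def leftPart (I : TwoSidedIdeal (A ⊗[k] B)) : TwoSidedIdeal A :=
  I.comap (Algebra.TensorProduct.includeLeft : A →ₐ[k] A ⊗[k] B)

theorem mem_leftPart {I : TwoSidedIdeal (A ⊗[k] B)} {a : A} :
    a ∈ leftPart I ↔ a ⊗ₜ[k] (1 : B) ∈ I := by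
  simp [leftPart, TwoSidedIdeal.mem_comap]

variable (k A B) in
theorem isSimpleRing_tensor [IsSimpleRing A] [Algebra.IsCentral k B] [IsSimpleRing B] :
    IsSimpleRing (A ⊗[k] B) := by
  have : Nontrivial (A ⊗[k] B) :=
    (Algebra.TensorProduct.includeLeft_injective (S := k) (A := A) (B := B)
      (FaithfulSMul.algebraMap_injective k B)).nontrivial
  refine .of_eq_bot_or_eq_top fun I => or_iff_not_imp_left.mpr fun hI => ?_
  obtain ⟨a, ha, ha0⟩ := exists_tmul_one_mem I hI
  have h1 : (1 : A) ∈ leftPart I :=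
    IsSimpleRing.one_mem_of_ne_zero_mem _ (fun h => ha0 (by rw [h, TensorProduct.zero_tmul]))
      (mem_leftPart.mpr ha)
  rw [← I.one_mem_iff]
  exact mem_leftPart.mp h1

variable (k A B) in
theorem isCentral_tensor [Algebra.IsCentral k A] [Algebra.IsCentral k B] [Nontrivial B] :
    Algebra.IsCentral k (A ⊗[k] B) := by
  refine ⟨fun x hx => ?_⟩
  rw [Subalgebra.mem_center_iff] at hx
  obtain ⟨a, rfl⟩ := exists_eq_tmul_one_of_commute fun c => hx _
  have ha : a ∈ Subalgebra.center k A := Subalgebra.mem_center_iff.mpr fun a' =>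
    Algebra.TensorProduct.includeLeft_injective (S := k) (A := A) (B := B)
      (FaithfulSMul.algebraMap_injective k B) (by simpa using hx (a' ⊗ₜ 1))
  obtain ⟨r, rfl⟩ := (Algebra.IsCentral.mem_center_iff k).mp ha
  exact Algebra.mem_bot.mpr ⟨r, by simp⟩

/-- For a finite-dimensional central simple algebra, `A ⊗ Aᵐᵒᵖ = End A`. -/
theorem mulLeftRight_bijective (k A : Type*) [Field k] [Ring A] [Algebra k A]
    [Algebra.IsCentral k A] [IsSimpleRing A] [FiniteDimensional k A] :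
    Function.Bijective (AlgHom.mulLeftRight k A) := by
  have := isSimpleRing_tensor k A Aᵐᵒᵖ
  have hinj : Function.Injective (AlgHom.mulLeftRight k A) :=
    (AlgHom.mulLeftRight k A).toRingHom.injective
  refine ⟨hinj, ?_⟩
  have hd : Module.finrank k (A ⊗[k] Aᵐᵒᵖ) = Module.finrank k (Module.End k A) := by
    rw [Module.finrank_tensorProduct, Module.finrank_linearMap,
      (MulOpposite.opLinearEquiv k : A ≃ₗ[k] Aᵐᵒᵖ).finrank_eq]
  exact (LinearMap.injective_iff_surjective_of_finrank_eq_finrank hd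
    (f := (AlgHom.mulLeftRight k A).toLinearMap)).mp hinj

end GrothLib.CSA
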