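import Groth.Agent.Lib.CSA.Splitting
import Mathlib.FieldTheory.Normal.Closure
import Mathlib.FieldTheory.SeparableClosure

/-!
# Existence of separable splitting fields; similar algebras containing a splitting field
-/

open scoped TensorProduct

namespace GrothLib.CSA

set_option linter.style.haveILetI false

universe u v

variable {k : Type u} [Field k]

theorem finrank_eq_sq_of_equiv {A : Type v} [Ring A] [Algebra k A] {k' : Type*} [Field k']
    [Algebra k k'] {n : ℕ} (e : k' ⊗[k] A ≃ₐ[k'] Matrix (Fin n) (Fin n) k') :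
    Module.finrank k A = n * n := by
  rw [← Module.finrank_baseChange (R := k') (M' := A), e.toLinearEquiv.finrank_eq,
    Module.finrank_matrix]
  simp

/-- A splitting field of `A` embeds into a similar algebra as a self-centralizing subfield. -/
theorem exists_brauerEquivalent_of_splits (A : CSA.{u, u} k) {k' : Type u} [Field k']
    [Algebra k k'] [FiniteDimensional k k'] (h : Curves.Splits k A k') :
    ∃ (B : CSA.{u, u} k) (_ : k' →ₐ[k] B), IsBrauerEquivalent A B ∧
      Module.finrank k B = Module.finrank k k' ^ 2 := by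
  obtain ⟨N, hN, ⟨ψ⟩⟩ := splits_op h
  have : Nonempty (Fin N) := ⟨⟨0, Nat.pos_of_ne_zero hN⟩⟩
  have hNA : Module.finrank k A = N * N :=
    (MulOpposite.opLinearEquiv k : A ≃ₗ[k] (A : Type u)ᵐᵒᵖ).finrank_eq.trans
      (finrank_eq_sq_of_equiv ψ)
  set m := Module.finrank k k' with hm
  have hm0 : m ≠ 0 := Module.finrank_pos.ne'
  -- `End_k(k'^N)` as a matrix algebra
  set M := m * N with hM
  have : Nonempty (Fin M) := ⟨⟨0, Nat.pos_of_ne_zero (mul_ne_zero hm0 hN)⟩⟩
  let b : Module.Basis (Fin M) k (Fin N → k') := Module.finBasisOfFinrankEq k (Fin N → k') (by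
    rw [Module.finrank_pi_fintype]; simp [hM, ← hm, mul_comm])
  let act : Module.End k' (Fin N → k') →ₐ[k] Module.End k (Fin N → k') :=
    { toFun := fun f => f.restrictScalars k
      map_one' := rfl
      map_mul' := fun _ _ => rfl
      map_zero' := rfl
      map_add' := fun _ _ => rfl
      commutes' := fun r => LinearMap.ext fun v => by
        simp [Algebra.algebraMap_eq_smul_one] }
  let T : Module.End k' (Fin N → k') →ₐ[k] Matrix (Fin M) (Fin M) k :=
    (algEquivMatrix b).toAlgHom.comp act
  let φ : (A : Type u)ᵐᵒᵖ →ₐ[k] Matrix (Fin M) (Fin M) k :=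
    T.comp ((Matrix.toLinAlgEquiv'.toAlgHom.restrictScalars k).comp
      ((ψ.toAlgHom.restrictScalars k).comp Algebra.TensorProduct.includeRight))
  have hφ : Function.Injective φ := φ.toRingHom.injective
  let eR : (A : Type u)ᵐᵒᵖ ≃ₐ[k] φ.range := AlgEquiv.ofInjective φ hφ
  have : IsSimpleRing φ.range := IsSimpleRing.of_ringEquiv eR.toRingEquiv inferInstance
  have : Algebra.IsCentral k φ.range := isCentral_of_algEquiv eR
  obtain ⟨hC, hdim⟩ := centralizer_theorem φ.range
  set C := Subalgebra.centralizer k (φ.range : Set (Matrix (Fin M) (Fin M) k)) with hCdef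
  have : Algebra.IsCentral k C := ⟨fun z hz => by
    rw [Subalgebra.mem_center_iff] at hz
    have hzR : z.1 ∈ φ.range := by
      rw [← double_centralizer φ.range]
      exact (Subalgebra.mem_centralizer_iff k).mpr fun c hc => congrArg Subtype.val (hz ⟨c, hc⟩)
    have hzc : (⟨z.1, hzR⟩ : φ.range) ∈ Subalgebra.center k φ.range :=
      Subalgebra.mem_center_iff.mpr fun y =>
        Subtype.ext ((Subalgebra.mem_centralizer_iff k).mp z.2 y.1 y.2)
    obtain ⟨r, hr⟩ := (Algebra.IsCentral.mem_center_iff k).mp hzc
    exact Algebra.mem_bot.mpr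
      ⟨r, Subtype.ext (show algebraMap k _ r = z.1 from (congrArg Subtype.val hr).symm)⟩⟩
  have hdC : Module.finrank k C = m ^ 2 := by
    rw [← eR.toLinearEquiv.finrank_eq,
      ← (MulOpposite.opLinearEquiv k : A ≃ₗ[k] (A : Type u)ᵐᵒᵖ).finrank_eq, hNA,
      Module.finrank_matrix] at hdim
    simp only [Fintype.card_fin, Module.finrank_self, mul_one, hM] at hdim
    exact Nat.eq_of_mul_eq_mul_left
      (Nat.pos_of_ne_zero (mul_ne_zero hN hN)) (hdim.symm.trans (by ring))
  -- the scalars of `k'` lie in the centralizer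
  let i : k' →ₐ[k] C := (T.comp ((Algebra.ofId k' (Module.End k' (Fin N → k'))).restrictScalars k)).codRestrict C fun c => by
    refine (Subalgebra.mem_centralizer_iff k).mpr ?_
    rintro _ ⟨a, rfl⟩
    show T _ * T _ = T _ * T _
    rw [← map_mul, ← map_mul]
    exact congrArg T (Algebra.commutes c _).symm
  refine ⟨CSA.mk (AlgCat.of k C), i, ⟨M, N * N, mul_ne_zero hm0 hN, mul_ne_zero hN hN, ?_⟩, hdC⟩
  let μ : φ.range ⊗[k] C ≃ₐ[k] Matrix (Fin M) (Fin M) k :=
    AlgEquiv.ofBijective _ (lift_centralizer_bijective φ.range)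
  have bA : Module.Basis (Fin (N * N)) k A := Module.finBasisOfFinrankEq k A hNA
  let E : (A : Type u) ⊗[k] (A : Type u)ᵐᵒᵖ ≃ₐ[k] Matrix (Fin (N * N)) (Fin (N * N)) k :=
    (AlgEquiv.ofBijective _ (mulLeftRight_bijective k A)).trans (algEquivMatrix bA)
  refine ⟨(matrixEquivTensor (Fin M) k A).trans ?_⟩
  refine (Algebra.TensorProduct.congr AlgEquiv.refl
    (μ.symm.trans (Algebra.TensorProduct.congr eR.symm AlgEquiv.refl))).trans ?_
  refine (Algebra.TensorProduct.assoc k k k A (A : Type u)ᵐᵒᵖ C).symm.trans ?_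
  refine (Algebra.TensorProduct.congr E AlgEquiv.refl).trans ?_
  exact (Algebra.TensorProduct.comm k _ C).trans (matrixEquivTensor (Fin (N * N)) k C).symm

theorem isCentral_of_matrix {D : Type v} [Ring D] [Algebra k D] {r : ℕ} [NeZero r]
    [Algebra.IsCentral k (Matrix (Fin r) (Fin r) D)] : Algebra.IsCentral k D := by
  refine ⟨fun z hz => ?_⟩
  rw [Subalgebra.mem_center_iff] at hz
  have h : Matrix.scalar (Fin r) z ∈ Subalgebra.center k (Matrix (Fin r) (Fin r) D) :=
    Subalgebra.mem_center_iff.mpr fun M =>
      ((Matrix.scalar_commute z (fun r' => (hz r').symm) M).symm : _)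
  obtain ⟨c, hc⟩ := (Algebra.IsCentral.mem_center_iff k).mp h
  exact Algebra.mem_bot.mpr ⟨c, by simpa [Matrix.algebraMap_matrix_apply] using (congrFun (congrFun hc 0) 0).symm⟩

/-- The degree of a division algebra divides the degree of each of its splitting fields. -/
theorem degree_dvd (D : Type u) [DivisionRing D] [Algebra k D] [Algebra.IsCentral k D]
    [FiniteDimensional k D] (d : ℕ) (hd : Module.finrank k D = d ^ 2) {k' : Type u} [Field k']
    [Algebra k k'] [FiniteDimensional k k'] (hs : Curves.Splits k D k') :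
    d ∣ Module.finrank k k' := by
  obtain ⟨B, _, ⟨n, m, hn, hm, ⟨e⟩⟩, hB⟩ :=
    exists_brauerEquivalent_of_splits (CSA.mk (AlgCat.of k D)) hs
  have := IsArtinianRing.of_finite k B
  obtain ⟨r, hr, E, _, _, _, ⟨f⟩⟩ := IsSimpleRing.exists_algEquiv_matrix_divisionRing_finite k B
  have : NeZero (m * r) := ⟨mul_ne_zero hm hr.out⟩
  have : NeZero n := ⟨hn⟩
  obtain ⟨g⟩ := divisionRing_unique (D := D) (n := n) (e.trans (f.mapMatrix.trans
    ((Matrix.compAlgEquiv (Fin m) (Fin r) E k).trans
      (Matrix.reindexAlgEquiv k E finProdFinEquiv))))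
  have h := hB
  rw [f.toLinearEquiv.finrank_eq, Module.finrank_matrix, ← g.toLinearEquiv.finrank_eq, hd] at h
  simp only [Fintype.card_fin] at h
  have h' : (r * d) ^ 2 = Module.finrank k k' ^ 2 := by rw [← h]; ring
  exact ⟨r, by rw [← Nat.pow_left_injective two_ne_zero h', mul_comm]⟩

variable (k)

/-- A finite central simple algebra is split by a finite separable extension inside the
separable closure. -/
theorem exists_separable_intermediate (A : Type v) [Ring A] [Algebra k A] [Algebra.IsCentral k A]
    [IsSimpleRing A] [FiniteDimensional k A] :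
    ∃ K : IntermediateField k (SeparableClosure k),
      FiniteDimensional k K ∧ Algebra.IsSeparable k K ∧ Curves.Splits k A K := by
  have := IsArtinianRing.of_finite k A
  obtain ⟨r, hr, D, _, _, _, ⟨f⟩⟩ := IsSimpleRing.exists_algEquiv_matrix_divisionRing_finite k A
  have := isCentral_of_algEquiv f
  have : Algebra.IsCentral k D := isCentral_of_matrix (r := r)
  obtain ⟨L, hc, hsep, he⟩ := exists_separable_centralizer_eq (k := k) (D := D)
  letI : CommRing L := { L.toRing with mul_comm := fun x y => Subtype.ext (hc x x.2 y y.2) }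
  letI := fieldOfFiniteDimensional k L
  have hL : Curves.Splits k D L := splits_of_contains L.val (finrank_sq_of_centralizer_eq L hc he)
  have hA : Curves.Splits k A L := splits_congr f.symm (splits_matrix r hr.out hL)
  let ι : L →ₐ[k] SeparableClosure k := IsSepClosed.lift
  let eι : L ≃ₐ[k] ι.fieldRange := AlgEquiv.ofInjectiveField ι
  exact ⟨ι.fieldRange, Module.Finite.equiv eι.toLinearEquiv,
    AlgEquiv.Algebra.isSeparable eι, splits_mono eι.toAlgHom hA⟩

/-- A finite central simple algebra is split by a finite Galois extension. -/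
theorem exists_galois_intermediate (A : Type v) [Ring A] [Algebra k A] [Algebra.IsCentral k A]
    [IsSimpleRing A] [FiniteDimensional k A] :
    ∃ K : IntermediateField k (SeparableClosure k),
      FiniteDimensional k K ∧ IsGalois k K ∧ Curves.Splits k A K := by
  obtain ⟨K, _, hs, h⟩ := exists_separable_intermediate k A
  refine ⟨IntermediateField.normalClosure k K (SeparableClosure k), inferInstance,
    ⟨⟩, splits_mono (K.val.codRestrict
      (IntermediateField.normalClosure k K (SeparableClosure k)).toSubalgebra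
      fun x => (AlgHom.fieldRange_le_normalClosure K.val) ⟨x, rfl⟩) h⟩

end GrothLib.CSA
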