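import Groth.Agent.Lib.CSA.Centralizer
import Mathlib.FieldTheory.JacobsonNoether
import Mathlib.FieldTheory.SeparableDegree

/-!
# Maximal commutative subalgebras of division algebras
-/

namespace GrothLib.CSA

set_option linter.style.haveILetI false
set_option linter.deprecated false

variable {k : Type*} [Field k] {D : Type*} [DivisionRing D] [Algebra k D]

theorem isField_of_comm [FiniteDimensional k D] (L : Subalgebra k D)
    (hcomm : ∀ x ∈ L, ∀ y ∈ L, x * y = y * x) : IsSimpleRing L := by
  letI : CommRing L := { L.toRing with mul_comm := fun x y => Subtype.ext (hcomm x x.2 y y.2) }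
  letI := fieldOfFiniteDimensional k L
  infer_instance

/-- `L` is a maximal commutative subalgebra iff it is its own centralizer. -/
theorem maxComm_iff (L : Subalgebra k D) (hcomm : ∀ x ∈ L, ∀ y ∈ L, x * y = y * x) :
    (∀ L' : Subalgebra k D, (∀ x ∈ L', ∀ y ∈ L', x * y = y * x) → L ≤ L' → L' = L) ↔
      Subalgebra.centralizer k (L : Set D) = L := by
  have hle : L ≤ Subalgebra.centralizer k (L : Set D) :=
    fun x hx => (Subalgebra.mem_centralizer_iff k).mpr fun y hy => hcomm y hy x hx
  constructor
  · intro hmax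
    refine le_antisymm (fun x hx => ?_) hle
    rw [Subalgebra.mem_centralizer_iff] at hx
    let L' := Algebra.adjoin k ((L : Set D) ∪ {x})
    have hc : ∀ a ∈ L', ∀ b ∈ L', a * b = b * a := by
      have hgen : ∀ a ∈ (L : Set D) ∪ {x}, ∀ b ∈ (L : Set D) ∪ {x}, Commute a b := by
        rintro a (ha | rfl) b (hb | rfl)
        · exact hcomm a ha b hb
        · exact hx a ha
        · exact (hx b hb).symm
        · exact Commute.refl _
      intro a ha b hb
      exact Algebra.commute_of_mem_adjoin_of_forall_mem_commute hb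
        (fun c hc => (Algebra.commute_of_mem_adjoin_of_forall_mem_commute ha
          (fun d hd => hgen c hc d hd)).symm)
    rw [← hmax L' hc (fun y hy => Algebra.subset_adjoin (Or.inl hy))]
    exact Algebra.subset_adjoin (Or.inr rfl)
  · intro h L' hc hL
    refine le_antisymm (fun x hx => ?_) hL
    rw [← h]
    exact (Subalgebra.mem_centralizer_iff k).mpr fun y hy => hc y (hL hy) x hx

variable [Algebra.IsCentral k D] [FiniteDimensional k D]

theorem finrank_sq_of_centralizer_eq (L : Subalgebra k D)
    (hcomm : ∀ x ∈ L, ∀ y ∈ L, x * y = y * x)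
    (h : Subalgebra.centralizer k (L : Set D) = L) :
    Module.finrank k D = Module.finrank k L ^ 2 := by
  have := isField_of_comm L hcomm
  rw [(centralizer_theorem L).2, h, sq]

/-- A finite central division algebra has a maximal commutative subalgebra separable over `k`. -/
theorem exists_separable_centralizer_eq :
    ∃ L : Subalgebra k D, (∀ x ∈ L, ∀ y ∈ L, x * y = y * x) ∧
      Algebra.IsSeparable k L ∧ Subalgebra.centralizer k (L : Set D) = L := by
  classical
  let P : Subalgebra k D → Prop := fun L =>
    (∀ x ∈ L, ∀ y ∈ L, x * y = y * x) ∧ Algebra.IsSeparable k L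
  have hP : ∃ L, P L := ⟨⊥, fun x hx y _ => by
      obtain ⟨r, rfl⟩ := Algebra.mem_bot.mp hx
      exact Algebra.commutes r y,
    AlgEquiv.Algebra.isSeparable (Algebra.botEquiv k D).symm⟩
  obtain ⟨L, hLP, hLmax⟩ : ∃ L, P L ∧ ∀ L', P L' → Module.finrank k L' ≤ Module.finrank k L := by
    have hbdd : BddAbove {n | ∃ L, P L ∧ Module.finrank k L = n} := ⟨Module.finrank k D, by
      rintro _ ⟨L, -, rfl⟩; exact Submodule.finrank_le L.toSubmodule⟩
    obtain ⟨L, hL, hn⟩ := Nat.sSup_mem (s := {n | ∃ L, P L ∧ Module.finrank k L = n})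
      (hP.elim fun L hL => ⟨_, L, hL, rfl⟩) hbdd
    exact ⟨L, hL, fun L' hL' => hn ▸ le_csSup hbdd ⟨L', hL', rfl⟩⟩
  obtain ⟨hcomm, hsep⟩ := hLP
  refine ⟨L, hcomm, hsep, ?_⟩
  by_contra hne
  have hsimple := isField_of_comm L hcomm
  set C := Subalgebra.centralizer k (L : Set D) with hC
  have hle : L ≤ C :=
    fun x hx => (Subalgebra.mem_centralizer_iff k).mpr fun y hy => hcomm y hy x hx
  have hdc : Subalgebra.centralizer k (C : Set D) = L := double_centralizer L
  letI : CommRing L := { L.toRing with mul_comm := fun x y => Subtype.ext (hcomm x x.2 y y.2) }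
  letI := fieldOfFiniteDimensional k L
  letI : DivisionRing C := divisionRingOfFiniteDimensional k C
  letI : Algebra L C := RingHom.toAlgebra' (Subalgebra.inclusion hle).toRingHom fun x c =>
    Subtype.ext ((Subalgebra.mem_centralizer_iff k).mp c.2 x.1 x.2)
  haveI : IsScalarTower k L C := .of_algebraMap_eq fun _ => rfl
  haveI : Module.Finite L C := .of_restrictScalars_finite k L C
  haveI : Algebra.IsCentral L C := ⟨fun z hz => by
    rw [Subalgebra.mem_center_iff] at hz
    have hzL : z.1 ∈ L := by
      rw [← hdc]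
      exact (Subalgebra.mem_centralizer_iff k).mpr fun c hc => congrArg Subtype.val (hz ⟨c, hc⟩)
    exact Algebra.mem_bot.mpr ⟨⟨z.1, hzL⟩, Subtype.ext rfl⟩⟩
  have hbot : (⊥ : Subalgebra L C) ≠ ⊤ := fun h => hne (le_antisymm (fun x hx => by
    have hx' : (⟨x, hx⟩ : C) ∈ (⊥ : Subalgebra L C) := h ▸ Algebra.mem_top
    obtain ⟨l, hl⟩ := Algebra.mem_bot.mp hx'
    have h3 : l.1 = x := congrArg Subtype.val hl
    exact h3 ▸ l.2) hle)
  obtain ⟨x, hx, hxsep⟩ := JacobsonNoether.exists_separable_and_not_isCentral' (L := L) (D := C) hbot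
  let M : Subalgebra L C := Algebra.adjoin L {x}
  letI : CommRing M := Algebra.adjoinCommRingOfComm L (s := {x}) (by simp)
  letI := fieldOfFiniteDimensional L M
  have hMsep : Algebra.IsSeparable L M := by
    let x' : M := ⟨x, Algebra.self_mem_adjoin_singleton L x⟩
    have hx' : IsSeparable L x' := by
      unfold IsSeparable at hxsep ⊢
      rwa [show minpoly L x' = minpoly L x from
        (minpoly.algHom_eq M.val Subtype.val_injective x').symm]
    have htop : IntermediateField.adjoin L {x'} = ⊤ := by
      refine top_le_iff.mp fun y _ => ?_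
      have hy : y ∈ Algebra.adjoin L {x'} := by
        have h1 : (Algebra.adjoin L {x'}).map M.val = M := by
          rw [AlgHom.map_adjoin, Set.image_singleton]; rfl
        obtain ⟨z, hz, hzy⟩ : (y : C) ∈ (Algebra.adjoin L {x'}).map M.val := by
          rw [h1]; exact y.2
        exact (Subtype.val_injective hzy : z = y) ▸ hz
      exact IntermediateField.algebra_adjoin_le_adjoin L _ hy
    have := (IntermediateField.isSeparable_adjoin_simple_iff_isSeparable L M).mpr hx'
    rw [htop] at this
    exact AlgEquiv.Algebra.isSeparable IntermediateField.topEquiv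
  have hkM : Algebra.IsSeparable k M := Algebra.IsSeparable.trans k L M
  let j : M →ₐ[k] D := C.val.comp (M.val.restrictScalars k)
  have hj : Function.Injective j := Subtype.val_injective.comp Subtype.val_injective
  have hP' : P j.range := ⟨by
      rintro _ ⟨a, rfl⟩ _ ⟨b, rfl⟩
      exact congrArg (j : M → D) (mul_comm a b) |> fun h => by simpa using h,
    AlgEquiv.Algebra.isSeparable (AlgEquiv.ofInjective j hj)⟩
  have hlt : L < j.range := lt_of_le_of_ne (fun y hy => ⟨algebraMap L M ⟨y, hy⟩, rfl⟩) fun h => hx (by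
    have hxL : x.1 ∈ L := by
      rw [h]; exact ⟨⟨x, Algebra.self_mem_adjoin_singleton L x⟩, rfl⟩
    exact Algebra.mem_bot.mpr ⟨⟨x.1, hxL⟩, Subtype.ext rfl⟩)
  exact absurd (hLmax _ hP') (not_le.mpr
    (Submodule.finrank_lt_finrank_of_lt (Subalgebra.toSubmodule.lt_iff_lt.mpr hlt)))

end GrothLib.CSA
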