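import Groth.Agent.Lib.CSA.Uniqueness
import Groth.Agent.Lib.CSA.Subfield
import Groth.Prelude.Def_Curves
import Mathlib.Algebra.BrauerGroup.Defs
import Mathlib.RingTheory.MatrixAlgebra
import Mathlib.FieldTheory.IsSepClosed
import Mathlib.RingTheory.SimpleModule.IsAlgClosed

/-!
# Splitting fields of central simple algebras
-/

open scoped TensorProduct

namespace GrothLib.CSA

set_option linter.style.haveILetI false

universe uk uk' uA uB uY

variable {k : Type uk} [Field k] {A : Type uA} [Ring A] [Algebra k A]
  {k' : Type uk'} [Field k'] [Algebra k k']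

theorem isCentral_of_algEquiv {C : Type uB} [Ring C] [Algebra k C] [Algebra.IsCentral k A]
    (e : A ≃ₐ[k] C) : Algebra.IsCentral k C :=
  ⟨fun x hx => by
    have h : e.symm x ∈ Subalgebra.center k A := Subalgebra.mem_center_iff.mpr fun y =>
      e.injective (by simpa using Subalgebra.mem_center_iff.mp hx (e y))
    obtain ⟨c, hc⟩ := (Algebra.IsCentral.mem_center_iff k).mp h
    exact Algebra.mem_bot.mpr ⟨c, by rw [← e.commutes, ← hc, e.apply_symm_apply]⟩⟩

section csa

variable [Algebra.IsCentral k A] [IsSimpleRing A] [FiniteDimensional k A]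

variable (k') in
theorem isSimpleRing_baseChange : IsSimpleRing (k' ⊗[k] A) := isSimpleRing_tensor k k' A

/-- A map from `A` into a `k'`-algebra of the right dimension identifies it with `k' ⊗ A`. -/
theorem baseChange_equiv {Y : Type uY} [Ring Y] [Nontrivial Y] [Algebra k' Y] [Algebra k Y]
    [IsScalarTower k k' Y] [FiniteDimensional k' Y] (g : A →ₐ[k] Y)
    (h : Module.finrank k' Y = Module.finrank k A) : Nonempty (k' ⊗[k] A ≃ₐ[k'] Y) := by
  have := isSimpleRing_baseChange (k := k) (A := A) k'
  let φ := Algebra.TensorProduct.lift (Algebra.ofId k' Y) g (fun c _ => Algebra.commutes c _)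
  have hinj : Function.Injective φ := φ.toRingHom.injective
  exact ⟨AlgEquiv.ofBijective φ ⟨hinj, (LinearMap.injective_iff_surjective_of_finrank_eq_finrank
    ((Module.finrank_baseChange).trans h.symm) (f := φ.toLinearMap)).mp hinj⟩⟩

theorem splits_of_map {n : ℕ} (hn : n ≠ 0) (g : A →ₐ[k] Matrix (Fin n) (Fin n) k')
    (h : n ^ 2 = Module.finrank k A) : Curves.Splits k A k' := by
  have : Nonempty (Fin n) := ⟨⟨0, Nat.pos_of_ne_zero hn⟩⟩
  exact ⟨n, hn, baseChange_equiv g (by rw [← h, Module.finrank_matrix]; simp [sq])⟩

/-- Splitting is inherited by field extensions. -/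
theorem splits_mono {K : Type uY} [Field K] [Algebra k K] (i : k' →ₐ[k] K)
    (h : Curves.Splits k A k') : Curves.Splits k A K := by
  obtain ⟨n, hn, ⟨e⟩⟩ := h
  refine splits_of_map hn (i.mapMatrix.comp
    ((e.toAlgHom.restrictScalars k).comp Algebra.TensorProduct.includeRight)) ?_
  rw [← Module.finrank_baseChange (R := k') (M' := A), e.toLinearEquiv.finrank_eq,
    Module.finrank_matrix]
  simp [sq]

theorem splits_algClosed (k' : Type uk') [Field k'] [Algebra k k'] [IsAlgClosed k'] :
    Curves.Splits k A k' := by
  have := isSimpleRing_baseChange (k := k) (A := A) k'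
  obtain ⟨n, hn, he⟩ := IsSimpleRing.exists_algEquiv_matrix_of_isAlgClosed k' (k' ⊗[k] A)
  exact ⟨n, hn.out, he⟩

variable (k A) in
theorem finrank_isSquare : IsSquare (Module.finrank k A) := by
  obtain ⟨n, _, ⟨e⟩⟩ := splits_algClosed (A := A) (k := k) (AlgebraicClosure k)
  refine ⟨n, ?_⟩
  rw [← Module.finrank_baseChange (R := AlgebraicClosure k) (M' := A), e.toLinearEquiv.finrank_eq,
    Module.finrank_matrix]
  simp

theorem splits_matrix (n : ℕ) (hn : n ≠ 0) (h : Curves.Splits k A k') :
    Curves.Splits k (Matrix (Fin n) (Fin n) A) k' := by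
  have : Nonempty (Fin n) := ⟨⟨0, Nat.pos_of_ne_zero hn⟩⟩
  obtain ⟨m, hm, ⟨e⟩⟩ := h
  refine splits_of_map (n := n * m) (mul_ne_zero hn hm)
    ((((Matrix.compAlgEquiv (Fin n) (Fin m) k' k).trans
      (Matrix.reindexAlgEquiv k k' finProdFinEquiv)).toAlgHom).comp
      (((e.toAlgHom.restrictScalars k).comp Algebra.TensorProduct.includeRight).mapMatrix)) ?_
  have hA : Module.finrank k A = m * m := by
    rw [← Module.finrank_baseChange (R := k') (M' := A), e.toLinearEquiv.finrank_eq,
      Module.finrank_matrix]
    simp
  rw [Module.finrank_matrix, hA]; simp; ring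

omit [Algebra.IsCentral k A] [IsSimpleRing A] [FiniteDimensional k A] in
theorem splits_congr {B : Type uB} [Ring B] [Algebra k B] (e : A ≃ₐ[k] B)
    (h : Curves.Splits k A k') : Curves.Splits k B k' := by
  obtain ⟨n, hn, ⟨f⟩⟩ := h
  exact ⟨n, hn, ⟨(Algebra.TensorProduct.congr AlgEquiv.refl e.symm).trans f⟩⟩

/-- If a matrix algebra over `A` splits then so does `A`. -/
theorem splits_of_matrix (n : ℕ) (hn : n ≠ 0)
    (h : Curves.Splits k (Matrix (Fin n) (Fin n) A) k') : Curves.Splits k A k' := by
  have : Nonempty (Fin n) := ⟨⟨0, Nat.pos_of_ne_zero hn⟩⟩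
  obtain ⟨N, hN, ⟨e⟩⟩ := h
  have := isSimpleRing_baseChange (k := k) (A := A) k'
  have := isSimpleRing_tensor k k' A
  have : IsArtinianRing (k' ⊗[k] A) := IsArtinianRing.of_finite k' _
  obtain ⟨r, hr, E, _, _, _, ⟨f⟩⟩ :=
    IsSimpleRing.exists_algEquiv_matrix_divisionRing_finite k' (k' ⊗[k] A)
  have hfA : Module.finrank k A = r * (r * Module.finrank k' E) := by
    rw [← Module.finrank_baseChange (R := k') (M' := A), f.toLinearEquiv.finrank_eq,
      Module.finrank_matrix]
    simp [mul_assoc]
  letI : Algebra k E := ((algebraMap k' E).comp (algebraMap k k')).toAlgebra'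
    fun c x => Algebra.commutes (algebraMap k k' c) x
  haveI : IsScalarTower k k' E := .of_algebraMap_eq fun _ => rfl
  obtain ⟨g⟩ := baseChange_equiv (k := k) (k' := k') (A := Matrix (Fin n) (Fin n) A)
    (Y := Matrix (Fin n) (Fin n) (Matrix (Fin r) (Fin r) E))
    (((f.toAlgHom.restrictScalars k).comp Algebra.TensorProduct.includeRight).mapMatrix)
    (by rw [Module.finrank_matrix, Module.finrank_matrix, Module.finrank_matrix, hfA]
        simp [mul_assoc])
  have : NeZero (n * r) := ⟨mul_ne_zero hn hr.out⟩
  have : NeZero N := ⟨hN⟩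
  obtain ⟨u⟩ := divisionRing_unique (((Matrix.compAlgEquiv (Fin n) (Fin r) E k').trans
    (Matrix.reindexAlgEquiv k' E finProdFinEquiv)).symm.trans (g.symm.trans e))
  exact ⟨r, hr.out, ⟨f.trans u.mapMatrix⟩⟩

theorem splits_op (h : Curves.Splits k A k') : Curves.Splits k Aᵐᵒᵖ k' := by
  obtain ⟨n, hn, ⟨e⟩⟩ := h
  refine splits_of_map hn ((((Matrix.transposeAlgEquiv (Fin n) k k').symm).toAlgHom).comp
    (AlgHom.op ((e.toAlgHom.restrictScalars k).comp Algebra.TensorProduct.includeRight))) ?_
  rw [← (MulOpposite.opLinearEquiv k : A ≃ₗ[k] Aᵐᵒᵖ).finrank_eq,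
    ← Module.finrank_baseChange (R := k') (M' := A), e.toLinearEquiv.finrank_eq,
    Module.finrank_matrix]
  simp [sq]

end csa

/-- `A` seen as a vector space over a commutative algebra mapping to it, acting on the right. -/
def RightSpace (_i : k' →ₐ[k] A) : Type uA := A

instance instAddCommGroupRightSpace (i : k' →ₐ[k] A) : AddCommGroup (RightSpace i) := inferInstanceAs (AddCommGroup A)

instance instModuleBaseRightSpace (i : k' →ₐ[k] A) : Module k (RightSpace i) := inferInstanceAs (Module k A)

instance instModuleRightSpace (i : k' →ₐ[k] A) : Module k' (RightSpace i) where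
  smul c x := (show A from x) * i c
  one_smul x := show (show A from x) * i 1 = x by rw [map_one, mul_one]
  mul_smul c d x := show (show A from x) * i (c * d) = ((show A from x) * i d) * i c by
    rw [mul_comm c d, map_mul, mul_assoc]
  smul_zero c := show (0 : A) * i c = 0 from zero_mul _
  smul_add c x y := show ((show A from x) + (show A from y)) * i c = _ from add_mul _ _ _
  add_smul c d x := show (show A from x) * i (c + d) = _ by rw [map_add, mul_add]; rfl
  zero_smul x := show (show A from x) * i 0 = 0 by rw [map_zero, mul_zero]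

instance instTowerRightSpace (i : k' →ₐ[k] A) : IsScalarTower k k' (RightSpace i) :=
  ⟨fun r c x => show (show A from x) * i (r • c) = r • ((show A from x) * i c) by
    rw [map_smul, mul_smul_comm]⟩

theorem splits_of_contains [Algebra.IsCentral k A] [IsSimpleRing A] [FiniteDimensional k A]
    [FiniteDimensional k k'] (i : k' →ₐ[k] A)
    (h : Module.finrank k A = Module.finrank k k' ^ 2) : Curves.Splits k A k' := by
  haveI hfk : Module.Finite k (RightSpace i) := inferInstanceAs (Module.Finite k A)
  haveI : Module.Finite k' (RightSpace i) := .of_restrictScalars_finite k k' _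
  haveI : Nontrivial (RightSpace i) := inferInstanceAs (Nontrivial A)
  let g : A →ₐ[k] Module.End k' (RightSpace i) :=
    { toFun := fun a =>
        { toFun := fun x => show A from a * (show A from x)
          map_add' := fun x y => mul_add a (show A from x) (show A from y)
          map_smul' := fun c x => (mul_assoc a (show A from x) (i c)).symm }
      map_one' := LinearMap.ext fun x => one_mul (show A from x)
      map_mul' := fun a b => LinearMap.ext fun x => mul_assoc a b (show A from x)
      map_zero' := LinearMap.ext fun x => zero_mul (show A from x)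
      map_add' := fun a b => LinearMap.ext fun x => add_mul a b (show A from x)
      commutes' := fun r => LinearMap.ext fun x =>
        (Algebra.smul_def r (show A from x)).symm }
  have hd : Module.finrank k' (RightSpace i) = Module.finrank k k' := by
    have := Module.finrank_mul_finrank k k' (RightSpace i)
    rw [show Module.finrank k (RightSpace i) = Module.finrank k A from rfl, h, sq] at this
    exact Nat.eq_of_mul_eq_mul_left Module.finrank_pos this
  let b := Module.finBasisOfFinrankEq k' (RightSpace i) hd
  exact splits_of_map Module.finrank_pos.ne'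
    (((algEquivMatrix b).toAlgHom.restrictScalars k).comp g) h.symm

/-- A form of a matrix algebra is central simple. -/
theorem csa_of_splits (h : Curves.Splits k A k') :
    Algebra.IsCentral k A ∧ IsSimpleRing A ∧ FiniteDimensional k A := by
  obtain ⟨n, hn, ⟨e⟩⟩ := h
  have : Nonempty (Fin n) := ⟨⟨0, Nat.pos_of_ne_zero hn⟩⟩
  have hs : IsSimpleRing (k' ⊗[k] A) := IsSimpleRing.of_ringEquiv e.symm.toRingEquiv inferInstance
  have hc : Algebra.IsCentral k' (k' ⊗[k] A) := isCentral_of_algEquiv e.symm
  have hfd : FiniteDimensional k A := by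
    have : Module.Finite k' (k' ⊗[k] A) := Module.Finite.equiv e.symm.toLinearEquiv
    refine Module.rank_lt_aleph0_iff.mp ?_
    have h := Module.rank_lt_aleph0 k' (k' ⊗[k] A)
    rw [Module.rank_baseChange] at h
    simpa using h
  have hnA : Nontrivial A := by
    refine (subsingleton_or_nontrivial A).resolve_left fun h => ?_
    have : Subsingleton (k' ⊗[k] A) := subsingleton_of_forall_eq 0 fun x => by
      induction x with
      | zero => rfl
      | tmul a b => rw [Subsingleton.elim b 0, TensorProduct.tmul_zero]
      | add a b ha hb => rw [ha, hb, add_zero]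
    exact not_subsingleton _ this
  have hinj : Function.Injective
      (Algebra.TensorProduct.includeRight : A →ₐ[k] k' ⊗[k] A) :=
    Algebra.TensorProduct.includeRight_injective (FaithfulSMul.algebraMap_injective k k')
  refine ⟨⟨fun z hz => ?_⟩, ?_, hfd⟩
  · rw [Subalgebra.mem_center_iff] at hz
    have hz' : (1 : k') ⊗ₜ[k] z ∈ Subalgebra.center k' (k' ⊗[k] A) :=
      Subalgebra.mem_center_iff.mpr fun y => by
        induction y with
        | zero => simp
        | tmul a b => simp [hz]
        | add a b ha hb => simp [mul_add, add_mul, ha, hb]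
    obtain ⟨c, hc'⟩ := (Algebra.IsCentral.mem_center_iff k').mp hz'
    by_contra hzk
    have hli : LinearIndependent k ![(1 : A), z] :=
      LinearIndependent.pair_iff.mpr fun s t hst => by
        by_cases ht : t = 0
        · subst ht; simpa using hst
        · exact absurd (Algebra.mem_bot.mpr ⟨-(t⁻¹ * s), by
            have : z = t⁻¹ • (t • z) := (inv_smul_smul₀ ht z).symm
            rw [this, eq_neg_of_add_eq_zero_right hst, Algebra.algebraMap_eq_smul_one, smul_neg,
              smul_smul, neg_smul]⟩) hzk
    let bs := Module.Basis.ofVectorSpace k k'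
    let L : (Fin 2 → k) →ₗ[k] A := Fintype.linearCombination k ![(1 : A), z]
    have hL : Function.Injective L := fun x y hxy => funext
      (Fintype.linearIndependent_iffₛ.mp hli x y
        (by simpa [L, Fintype.linearCombination_apply] using hxy))
    have h2 : Function.Injective (L.baseChange k') := by
      rw [LinearMap.baseChange_eq_ltensor]
      exact Module.Flat.lTensor_preserves_injective_linearMap L hL
    have := h2 (a₁ := 1 ⊗ₜ Pi.single 1 1) (a₂ := c ⊗ₜ Pi.single 0 1) (by
      simp only [LinearMap.baseChange_tmul, L, Fintype.linearCombination_apply_single,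
        Matrix.cons_val_one, Matrix.cons_val_zero, one_smul]
      rw [hc', Algebra.TensorProduct.algebraMap_apply]; simp)
    have := congrArg ((LinearMap.proj (1 : Fin 2)).baseChange k') this
    simp only [LinearMap.baseChange_tmul, LinearMap.proj_apply, Pi.single_eq_same,
      Pi.single_eq_of_ne (show (1 : Fin 2) ≠ 0 by decide), TensorProduct.tmul_zero] at this
    have := congrArg (TensorProduct.AlgebraTensorModule.rid k k' k') this
    simp at this
  · refine .of_eq_bot_or_eq_top fun I => or_iff_not_imp_right.mpr fun hI => ?_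
    let q : A →ₐ[k] (A ⧸ I.asIdeal) := Ideal.Quotient.mkₐ k I.asIdeal
    have : Nontrivial (A ⧸ I.asIdeal) := Ideal.Quotient.nontrivial_iff.mpr fun h => hI (by
      rw [← I.one_mem_iff, ← TwoSidedIdeal.mem_asIdeal, h]; trivial)
    have : Nontrivial (k' ⊗[k] (A ⧸ I.asIdeal)) :=
      (Algebra.TensorProduct.includeRight_injective (R := k) (A := k') (B := A ⧸ I.asIdeal)
        (FaithfulSMul.algebraMap_injective k k')).nontrivial
    have hi := (Algebra.TensorProduct.map (AlgHom.id k' k') q).toRingHom.injective
    refine eq_bot_iff.mpr fun x hx => (TwoSidedIdeal.mem_bot A).mpr (hinj (hi ?_))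
    simp [q, Ideal.Quotient.eq_zero_iff_mem.mpr (TwoSidedIdeal.mem_asIdeal.mpr hx)]

end GrothLib.CSA
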