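import Mathlib.RingTheory.SimpleModule.WedderburnArtin
import Mathlib.LinearAlgebra.FiniteDimensional.Lemmas
import Mathlib.LinearAlgebra.Dimension.Constructions

/-!
# Modules over simple Artinian algebras
-/

namespace GrothLib.CSA

universe uR uS uT uM uN

variable {k : Type*} [Field k] {R : Type uR} [Ring R] [Algebra k R]

/-- Simple modules over a simple Artinian ring are isomorphic. -/
theorem nonempty_linearEquiv_of_isSimpleModule [IsSimpleRing R] [IsArtinianRing R]
    (S : Type uS) [AddCommGroup S] [Module R S] [IsSimpleModule R S]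
    (T : Type uT) [AddCommGroup T] [Module R T] [IsSimpleModule R T] :
    Nonempty (S ≃ₗ[R] T) := by
  obtain ⟨I, ⟨e⟩⟩ := IsSemisimpleRing.exists_linearEquiv_ideal_of_isSimpleModule R S
  obtain ⟨J, ⟨f⟩⟩ := IsSemisimpleRing.exists_linearEquiv_ideal_of_isSimpleModule R T
  have := IsSimpleModule.congr e.symm
  have := IsSimpleModule.congr f.symm
  obtain ⟨g⟩ := IsSimpleRing.isIsotypic R R J I
  exact ⟨e.trans (g.trans f.symm)⟩

/-- A finite module over a simple Artinian ring is a power of any simple module. -/
theorem exists_linearEquiv_pi [IsSimpleRing R] [IsArtinianRing R]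
    (S : Type uS) [AddCommGroup S] [Module R S] [IsSimpleModule R S]
    (M : Type uM) [AddCommGroup M] [Module R M] [Module.Finite R M] :
    ∃ n : ℕ, Nonempty (M ≃ₗ[R] (Fin n → S)) :=
  IsIsotypicOfType.linearEquiv_fun (S := S) fun m _ => nonempty_linearEquiv_of_isSimpleModule m S

variable (k R) in
theorem isArtinianRing [FiniteDimensional k R] : IsArtinianRing R :=
  IsArtinianRing.of_finite k R

variable (k R) in
theorem exists_simple_left_ideal [Nontrivial R] [FiniteDimensional k R] :
    ∃ S : Submodule R R, IsSimpleModule R S := by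
  have := isArtinianRing k R
  obtain ⟨S, hS⟩ := IsAtomic.exists_atom (Submodule R R)
  exact ⟨S, isSimpleModule_iff_isAtom.mpr hS⟩

/-- Modules over a finite-dimensional simple algebra are classified by their dimension. -/
theorem nonempty_linearEquiv_of_finrank_eq [IsSimpleRing R] [FiniteDimensional k R]
    (M : Type uM) [AddCommGroup M] [Module k M] [Module R M] [IsScalarTower k R M]
    [FiniteDimensional k M]
    (N : Type uN) [AddCommGroup N] [Module k N] [Module R N] [IsScalarTower k R N]
    [FiniteDimensional k N] (h : Module.finrank k M = Module.finrank k N) :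
    Nonempty (M ≃ₗ[R] N) := by
  have := isArtinianRing k R
  obtain ⟨S, hS⟩ := exists_simple_left_ideal k R
  have := (Module.Finite.of_restrictScalars_finite k R M : Module.Finite R M)
  have := (Module.Finite.of_restrictScalars_finite k R N : Module.Finite R N)
  obtain ⟨a, ⟨e⟩⟩ := exists_linearEquiv_pi (R := R) S M
  obtain ⟨b, ⟨f⟩⟩ := exists_linearEquiv_pi (R := R) S N
  have hfin : Module.Finite k S := Module.Finite.of_injective
    (S.subtype.restrictScalars k) S.subtype_injective
  have := IsSimpleModule.nontrivial R S
  have ha : Module.finrank k M = a * Module.finrank k S := by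
    rw [(e.restrictScalars k).finrank_eq, Module.finrank_pi_fintype]; simp
  have hb : Module.finrank k N = b * Module.finrank k S := by
    rw [(f.restrictScalars k).finrank_eq, Module.finrank_pi_fintype]; simp
  have hab : a = b := Nat.eq_of_mul_eq_mul_right Module.finrank_pos (ha.symm.trans (h.trans hb))
  subst hab
  exact ⟨e.trans f.symm⟩

/-- `Hom` transported along `R`-linear equivalences, `k`-linearly. -/
def homCongr {M₁ : Type uM} [AddCommGroup M₁] [Module R M₁]
    {M₂ : Type uN} [AddCommGroup M₂] [Module R M₂]
    {N₁ : Type uS} [AddCommGroup N₁] [Module R N₁] [Module k N₁] [SMulCommClass R k N₁]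
    [IsScalarTower k R N₁]
    {N₂ : Type uT} [AddCommGroup N₂] [Module R N₂] [Module k N₂] [SMulCommClass R k N₂]
    [IsScalarTower k R N₂]
    (e : M₁ ≃ₗ[R] M₂) (f : N₁ ≃ₗ[R] N₂) : (M₁ →ₗ[R] N₁) ≃ₗ[k] (M₂ →ₗ[R] N₂) where
  __ := e.arrowCongrAddEquiv f
  map_smul' c _ := LinearMap.ext fun _ => f.toLinearMap.map_smul_of_tower c _

variable (k R) in
/-- `Hom_R(S^a, S^b) = M_{b×a}(End_R S)` as `k`-spaces. -/
def homPiEquiv (S : Type uS) [AddCommGroup S] [Module k S] [Module R S] [IsScalarTower k R S]
    [SMulCommClass R k S] (a b : ℕ) :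
    ((Fin a → S) →ₗ[R] (Fin b → S)) ≃ₗ[k] (Fin b → Fin a → Module.End R S) where
  toFun f j i := (LinearMap.proj j).comp (f.comp (LinearMap.single R (fun _ => S) i))
  invFun g := LinearMap.pi fun j => LinearMap.lsum R (fun _ => S) k (g j)
  map_add' f g := by ext; simp
  map_smul' c f := by ext; simp
  left_inv f := by
    refine LinearMap.pi_ext fun i x => funext fun j => ?_
    simp only [LinearMap.pi_apply, LinearMap.lsum_apply, LinearMap.coe_sum, Finset.sum_apply,
      LinearMap.coe_comp, Function.comp_apply, LinearMap.proj_apply, LinearMap.single_apply]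
    rw [Finset.sum_eq_single i (fun l _ hl => by simp [Pi.single_eq_of_ne hl]) (by simp)]
    simp
  right_inv g := by
    funext j i; ext x
    simp only [LinearMap.coe_comp, Function.comp_apply, LinearMap.proj_apply, LinearMap.pi_apply,
      LinearMap.lsum_apply, LinearMap.coe_sum, Finset.sum_apply, LinearMap.single_apply]
    rw [Finset.sum_eq_single i (fun l _ hl => by simp [Pi.single_eq_of_ne hl]) (by simp)]
    simp

variable (k) in
/-- Structure of the endomorphism ring of a finite module over a simple algebra:
simplicity and the dimension formula `dim R * dim End_R(M) = (dim M)^2`. -/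
theorem end_isSimpleRing_and_finrank [IsSimpleRing R] [FiniteDimensional k R]
    (M : Type uM) [AddCommGroup M] [Module k M] [Module R M] [IsScalarTower k R M]
    [SMulCommClass R k M] [Nontrivial M] [FiniteDimensional k M] :
    IsSimpleRing (Module.End R M) ∧
      Module.finrank k R * Module.finrank k (Module.End R M) = Module.finrank k M ^ 2 := by
  classical
  have := isArtinianRing k R
  obtain ⟨S, hS⟩ := exists_simple_left_ideal k R
  have := (Module.Finite.of_restrictScalars_finite k R M : Module.Finite R M)
  obtain ⟨n, ⟨e⟩⟩ := exists_linearEquiv_pi (R := R) S M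
  obtain ⟨m, ⟨f⟩⟩ := exists_linearEquiv_pi (R := R) S R
  have hn : n ≠ 0 := by
    rintro rfl
    exact not_subsingleton M e.injective.subsingleton
  have : Nonempty (Fin n) := ⟨⟨0, Nat.pos_of_ne_zero hn⟩⟩
  refine ⟨IsSimpleRing.of_ringEquiv (e.conjRingEquiv.trans
    (endVecRingEquivMatrixEnd (Fin n) R S)).symm inferInstance, ?_⟩
  have hfS : Module.Finite k S := Module.Finite.of_injective
    (S.subtype.restrictScalars k) S.subtype_injective
  have hE : Module.Finite k (Module.End R S) :=
    Module.Finite.of_injective (LinearMap.restrictScalarsₗ k R S S k)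
      (LinearMap.restrictScalars_injective k)
  set d := Module.finrank k (Module.End R S) with hd
  have key : ∀ a b : ℕ, Module.finrank k ((Fin a → S) →ₗ[R] (Fin b → S)) = b * (a * d) := by
    intro a b
    rw [(homPiEquiv k R S a b).finrank_eq, Module.finrank_pi_fintype]
    simp [Module.finrank_pi_fintype, hd]
  have h1 : Module.finrank k R = m * (m * d) := by
    rw [← (LinearMap.ringLmapEquivSelf R k R).finrank_eq,
      (homCongr (k := k) f f).finrank_eq, key]
  have h2 : Module.finrank k M = n * (m * d) := by
    rw [← (LinearMap.ringLmapEquivSelf R k M).finrank_eq,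
      (homCongr (k := k) f e).finrank_eq, key]
  have h3 : Module.finrank k (Module.End R M) = n * (n * d) := by
    rw [(e.conjAlgEquiv k).toLinearEquiv.finrank_eq, key]
  rw [h1, h2, h3]; ring

end GrothLib.CSA
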