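import Groth.Agent.Lib.CSA.Basic
import Groth.Agent.Lib.CSA.SimpleModules

/-!
# Skolem-Noether and the centralizer theorems
-/

open scoped TensorProduct

namespace GrothLib.CSA

universe uk uA uB uR uM

section Rep

variable {k : Type uk} [Field k] {R : Type uR} [Ring R] [Algebra k R]
  {M : Type uM} [AddCommGroup M] [Module k M]

/-- `M` seen as an `R`-module through a representation. -/
def Rep (_ρ : R →ₐ[k] Module.End k M) : Type uM := M

variable (ρ : R →ₐ[k] Module.End k M)

instance : AddCommGroup (Rep ρ) := inferInstanceAs (AddCommGroup M)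

instance instModuleBase : Module k (Rep ρ) := inferInstanceAs (Module k M)

instance [Nontrivial M] : Nontrivial (Rep ρ) := inferInstanceAs (Nontrivial M)

instance [FiniteDimensional k M] : FiniteDimensional k (Rep ρ) :=
  inferInstanceAs (FiniteDimensional k M)

/-- The identity `M ≃ Rep ρ`. -/
def toRep : M ≃ₗ[k] Rep ρ := LinearEquiv.refl k M

instance instModule : Module R (Rep ρ) where
  smul r x := ρ r x
  one_smul x := show ρ 1 x = x by rw [map_one]; rfl
  mul_smul r s x := show ρ (r * s) x = ρ r (ρ s x) by rw [map_mul]; rfl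
  smul_zero r := show ρ r 0 = 0 from (ρ r).map_zero
  smul_add r x y := show ρ r (x + y) = ρ r x + ρ r y from (ρ r).map_add x y
  add_smul r s x := show ρ (r + s) x = ρ r x + ρ s x by rw [map_add]; rfl
  zero_smul x := show ρ 0 x = 0 by rw [map_zero]; rfl

theorem smul_toRep (r : R) (x : M) : r • toRep ρ x = toRep ρ (ρ r x) := rfl

theorem toRep_symm_smul (r : R) (x : Rep ρ) :
    (toRep ρ).symm (r • x) = ρ r ((toRep ρ).symm x) := rfl

instance : IsScalarTower k R (Rep ρ) :=
  ⟨fun c r x => show ρ (c • r) x = c • ρ r x by rw [map_smul]; rfl⟩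

instance : SMulCommClass R k (Rep ρ) :=
  ⟨fun r c x => show ρ r (c • x) = c • ρ r x from (ρ r).map_smul c x⟩

/-- Two representations of a finite-dimensional simple algebra on spaces of equal
dimension are conjugate. -/
theorem exists_conj [IsSimpleRing R] [FiniteDimensional k R] [FiniteDimensional k M]
    (σ : R →ₐ[k] Module.End k M) :
    ∃ φ : M ≃ₗ[k] M, ∀ r x, φ (ρ r x) = σ r (φ x) := by
  obtain ⟨e⟩ := nonempty_linearEquiv_of_finrank_eq (k := k) (R := R) (Rep ρ) (Rep σ)
    ((toRep ρ).symm.finrank_eq.trans (toRep σ).finrank_eq)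
  exact ⟨(toRep ρ).trans ((e.restrictScalars k).trans (toRep σ).symm), fun r x => e.map_smul r x⟩

end Rep

variable {k : Type uk} [Field k] {A : Type uA} [Ring A] [Algebra k A]
  {B : Type uB} [Ring B] [Algebra k B]

/-- The representation of `B ⊗ Aᵐᵒᵖ` on `A` attached to `f : B → A`. -/
noncomputable def bimod (f : B →ₐ[k] A) : B ⊗[k] Aᵐᵒᵖ →ₐ[k] Module.End k A :=
  (AlgHom.mulLeftRight k A).comp (Algebra.TensorProduct.map f (AlgHom.id k Aᵐᵒᵖ))

theorem bimod_tmul (f : B →ₐ[k] A) (b : B) (a : Aᵐᵒᵖ) (x : A) :
    bimod f (b ⊗ₜ a) x = f b * x * a.unop := by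
  simp [bimod]

/-- **Skolem-Noether**. -/
theorem skolem_noether [Algebra.IsCentral k A] [IsSimpleRing A] [FiniteDimensional k A]
    [IsSimpleRing B] (f g : B →ₐ[k] A) : ∃ u : Aˣ, ∀ b, f b = u * g b * (u⁻¹ : Aˣ) := by
  have : FiniteDimensional k B := Module.Finite.of_injective f.toLinearMap f.toRingHom.injective
  have := isSimpleRing_tensor k B Aᵐᵒᵖ
  obtain ⟨φ, hφ⟩ := exists_conj (bimod g) (bimod f)
  have hmul : ∀ x a : A, φ (x * a) = φ x * a := fun x a => by
    simpa [bimod_tmul] using hφ ((1 : B) ⊗ₜ MulOpposite.op a) x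
  have hf : ∀ b x, φ (g b * x) = f b * φ x := fun b x => by
    simpa [bimod_tmul] using hφ (b ⊗ₜ (1 : Aᵐᵒᵖ)) x
  have huv : φ 1 * φ.symm 1 = 1 := by
    rw [← hmul, one_mul, φ.apply_symm_apply]
  have hvu : φ.symm 1 * φ 1 = 1 := φ.injective (by
    rw [hmul, φ.apply_symm_apply, one_mul])
  refine ⟨⟨φ 1, φ.symm 1, huv, hvu⟩, fun b => ?_⟩
  show f b = φ 1 * g b * φ.symm 1
  rw [← hmul 1 (g b), one_mul, show φ (g b) = f b * φ 1 by simpa using hf b 1, mul_assoc, huv,
    mul_one]

/-- The centralizer of `B` is the endomorphism algebra of `A` as a `B ⊗ Aᵐᵒᵖ`-module. -/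
noncomputable def centralizerEquiv (B : Subalgebra k A) :
    Subalgebra.centralizer k (B : Set A) ≃ₐ[k]
      Module.End (B ⊗[k] Aᵐᵒᵖ) (Rep (bimod B.val)) :=
  AlgEquiv.ofBijective
    { toFun := fun c =>
        { toFun := fun x => toRep (bimod B.val) (c.1 * (toRep (bimod B.val)).symm x)
          map_add' := fun x y => by simp [mul_add]
          map_smul' := fun r x => by
            obtain ⟨y, rfl⟩ := (toRep (bimod B.val)).surjective x
            rw [RingHom.id_apply, LinearEquiv.symm_apply_apply, smul_toRep,
              LinearEquiv.symm_apply_apply, smul_toRep]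
            congr 1
            induction r using TensorProduct.induction_on with
            | zero => simp
            | tmul b a =>
                simp only [bimod_tmul, Subalgebra.coe_val]
                have hc : b.1 * c.1 = c.1 * b.1 :=
                  (Subalgebra.mem_centralizer_iff k).mp c.2 b.1 b.2
                simp only [← mul_assoc, hc]
            | add r s hr hs => simp [mul_add, hr, hs] }
      map_one' := by ext; simp
      map_mul' := fun c d => by ext; simp [mul_assoc]
      map_zero' := by ext; simp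
      map_add' := fun c d => by ext; simp [add_mul]
      commutes' := fun r => by
        ext x
        simp [Algebra.algebraMap_eq_smul_one] }
    ⟨fun c d h => Subtype.ext (by
        simpa using congrArg (toRep (bimod B.val)).symm
          (LinearMap.congr_fun h (toRep (bimod B.val) 1))),
      fun φ => by
        have h : ∀ (b : B) (a x : A),
            (toRep (bimod B.val)).symm (φ (toRep (bimod B.val) (b.1 * x * a))) =
              b.1 * (toRep (bimod B.val)).symm (φ (toRep (bimod B.val) x)) * a := fun b a x => by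
          have := congrArg (toRep (bimod B.val)).symm
            (φ.map_smul (b ⊗ₜ[k] MulOpposite.op a) (toRep (bimod B.val) x))
          rwa [smul_toRep, toRep_symm_smul, bimod_tmul, bimod_tmul] at this
        refine ⟨⟨(toRep (bimod B.val)).symm (φ (toRep (bimod B.val) 1)),
          (Subalgebra.mem_centralizer_iff k).mpr fun b hb => ?_⟩, ?_⟩
        · have h1 := h ⟨b, hb⟩ 1 1
          have h2 := h 1 b 1
          simp only [mul_one, OneMemClass.coe_one, one_mul] at h1 h2
          exact h1.symm.trans h2
        · refine LinearMap.ext fun x => ?_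
          have h2 := h 1 ((toRep (bimod B.val)).symm x) 1
          simp only [OneMemClass.coe_one, one_mul, LinearEquiv.apply_symm_apply] at h2
          show toRep (bimod B.val) ((toRep (bimod B.val)).symm (φ (toRep (bimod B.val) 1)) *
            (toRep (bimod B.val)).symm x) = φ x
          rw [← h2, LinearEquiv.apply_symm_apply]⟩

variable [Algebra.IsCentral k A] [IsSimpleRing A] [FiniteDimensional k A]

/-- The centralizer theorem. -/
theorem centralizer_theorem (B : Subalgebra k A) [IsSimpleRing B] :
    IsSimpleRing (Subalgebra.centralizer k (B : Set A)) ∧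
      Module.finrank k A =
        Module.finrank k B * Module.finrank k (Subalgebra.centralizer k (B : Set A)) := by
  have := isSimpleRing_tensor k B Aᵐᵒᵖ
  obtain ⟨h1, h2⟩ := end_isSimpleRing_and_finrank k (R := B ⊗[k] Aᵐᵒᵖ) (Rep (bimod B.val))
  refine ⟨IsSimpleRing.of_ringEquiv (centralizerEquiv B).toRingEquiv.symm h1, ?_⟩
  rw [← (centralizerEquiv B).toLinearEquiv.finrank_eq, Module.finrank_tensorProduct,
    ← (MulOpposite.opLinearEquiv k : A ≃ₗ[k] Aᵐᵒᵖ).finrank_eq,
    ← (toRep (bimod B.val)).finrank_eq, sq] at h2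
  exact (Nat.eq_of_mul_eq_mul_right Module.finrank_pos
    (by rw [← h2]; ring)).symm

/-- The double centralizer theorem. -/
theorem double_centralizer (B : Subalgebra k A) [IsSimpleRing B] :
    Subalgebra.centralizer k (Subalgebra.centralizer k (B : Set A) : Set A) = B := by
  obtain ⟨hC, h1⟩ := centralizer_theorem B
  obtain ⟨-, h2⟩ := centralizer_theorem (Subalgebra.centralizer k (B : Set A))
  have hle : B ≤ Subalgebra.centralizer k (Subalgebra.centralizer k (B : Set A) : Set A) :=
    fun b hb => (Subalgebra.mem_centralizer_iff k).mpr fun c hc =>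
      ((Subalgebra.mem_centralizer_iff k).mp hc b hb).symm
  refine (Subalgebra.eq_of_le_of_finrank_eq hle (Nat.eq_of_mul_eq_mul_right
    (m := Module.finrank k (Subalgebra.centralizer k (B : Set A))) Module.finrank_pos ?_)).symm
  rw [← h1, mul_comm, ← h2]

/-- A central simple subalgebra and its centralizer decompose `A`. -/
theorem lift_centralizer_bijective (B : Subalgebra k A) [IsSimpleRing B] [Algebra.IsCentral k B] :
    Function.Bijective (Algebra.TensorProduct.lift B.val
      (Subalgebra.centralizer k (B : Set A)).val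
      (fun x y => ((Subalgebra.mem_centralizer_iff k).mp y.2 x.1 x.2))) := by
  obtain ⟨hC, hd⟩ := centralizer_theorem B
  have : IsSimpleRing (B ⊗[k] Subalgebra.centralizer k (B : Set A)) :=
    IsSimpleRing.of_ringEquiv (Algebra.TensorProduct.comm k
      (Subalgebra.centralizer k (B : Set A)) B).toRingEquiv (isSimpleRing_tensor k _ _)
  set φ := Algebra.TensorProduct.lift B.val (Subalgebra.centralizer k (B : Set A)).val
      (fun x y => ((Subalgebra.mem_centralizer_iff k).mp y.2 x.1 x.2))
  have hinj : Function.Injective φ := φ.toRingHom.injective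
  refine ⟨hinj, (LinearMap.injective_iff_surjective_of_finrank_eq_finrank ?_
    (f := φ.toLinearMap)).mp hinj⟩
  rw [Module.finrank_tensorProduct, hd]

end GrothLib.CSA
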