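import Groth.Agent.Lib.CSA.Centralizer
import Mathlib.Data.Matrix.Basic

/-!
# Uniqueness of the division algebra in Wedderburn's theorem
-/

namespace GrothLib.CSA

universe uk uR uD uD'

open MulOpposite

variable {k : Type uk} [Field k] {R : Type uR} [Ring R] [Algebra k R]
  {D : Type uD} [DivisionRing D] [Algebra k D] {n : ℕ}

variable (k D n) in
/-- `Mₙ(D)` acting on columns. -/
def colRep : Matrix (Fin n) (Fin n) D →ₐ[k] Module.End k (Fin n → D) where
  toFun M :=
    { toFun := fun v => M.mulVec v
      map_add' := Matrix.mulVec_add M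
      map_smul' := fun c v => Matrix.mulVec_smul M c v }
  map_one' := LinearMap.ext fun v => Matrix.one_mulVec v
  map_mul' M N := LinearMap.ext fun v => (Matrix.mulVec_mulVec v M N).symm
  map_zero' := LinearMap.ext fun v => Matrix.zero_mulVec v
  map_add' M N := LinearMap.ext fun v => Matrix.add_mulVec M N v
  commutes' c := LinearMap.ext fun v => by
    simp [Algebra.algebraMap_eq_smul_one, Matrix.smul_mulVec]

theorem colRep_apply (M : Matrix (Fin n) (Fin n) D) (v : Fin n → D) :
    colRep k D n M v = M.mulVec v := rfl

variable (φ : R →ₐ[k] Matrix (Fin n) (Fin n) D)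

variable {φ} in
theorem exists_smul_eq (hφ : Function.Surjective φ) {v : Fin n → D} (hv : v ≠ 0) (w : Fin n → D) :
    ∃ r, (colRep k D n).comp φ r v = w := by
  classical
  obtain ⟨j, hj⟩ := Function.ne_iff.mp hv
  obtain ⟨r, hr⟩ := hφ (Matrix.of fun i l => if l = j then w i * (v j)⁻¹ else 0)
  refine ⟨r, funext fun i => ?_⟩
  rw [AlgHom.comp_apply, hr, colRep_apply]
  simp only [Matrix.mulVec, dotProduct, Matrix.of_apply, ite_mul, zero_mul, Finset.sum_ite_eq',
    Finset.mem_univ, if_true]
  rw [mul_assoc, inv_mul_cancel₀ hj, mul_one]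

theorem isSimpleModule_col [NeZero n] (hφ : Function.Surjective φ) :
    IsSimpleModule R (Rep ((colRep k D n).comp φ)) := by
  refine isSimpleModule_iff_toSpanSingleton_surjective.mpr
    ⟨inferInstanceAs (Nontrivial (Fin n → D)), fun v hv w => ?_⟩
  obtain ⟨r, hr⟩ := exists_smul_eq hφ (v := v) hv w
  exact ⟨r, hr⟩

/-- Right multiplication by `d` on the column module. -/
noncomputable def endColHom : Dᵐᵒᵖ →ₐ[k] Module.End R (Rep ((colRep k D n).comp φ)) where
  toFun := fun d =>
    { toFun := fun v => toRep _ fun i => (toRep _).symm v i * d.unop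
      map_add' := fun v w => by
        rw [← map_add]; congr 1; funext i; simp [add_mul]
      map_smul' := fun r v => by
        rw [RingHom.id_apply, toRep_symm_smul, smul_toRep]
        congr 1; funext i
        simp [colRep_apply, Matrix.mulVec, dotProduct, Finset.sum_mul, mul_assoc] }
  map_one' := LinearMap.ext fun v => funext fun i => mul_one _
  map_mul' := fun d e => LinearMap.ext fun v => funext fun i => (mul_assoc _ _ _).symm
  map_zero' := LinearMap.ext fun v => funext fun i => mul_zero _
  map_add' := fun d e => LinearMap.ext fun v => funext fun i => mul_add _ _ _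
  commutes' := fun c => LinearMap.ext fun v => funext fun i => by
    show (toRep ((colRep k D n).comp φ)).symm v i * algebraMap k D c = _
    rw [← Algebra.commutes, ← Algebra.smul_def]
    rfl

theorem endColHom_apply (d : Dᵐᵒᵖ) (v : Rep ((colRep k D n).comp φ)) :
    endColHom φ d v = toRep _ fun i => (toRep ((colRep k D n).comp φ)).symm v i * d.unop := rfl

variable {φ} in
theorem endColHom_bijective [NeZero n] (hφ : Function.Surjective φ) :
    Function.Bijective (endColHom φ) :=
    ⟨fun d e h => MulOpposite.unop_injective (by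
        have := congr_fun (congrArg (toRep ((colRep k D n).comp φ)).symm
          (LinearMap.congr_fun h (toRep _ fun _ => (1 : D)))) (0 : Fin n)
        rw [endColHom_apply, endColHom_apply] at this
        simpa using this),
      fun f => by
        classical
        let e₀ : Fin n → D := Pi.single 0 1
        obtain ⟨p, hp⟩ := hφ (Matrix.single 0 0 1)
        have hfix : f ((toRep ((colRep k D n).comp φ)) e₀) =
            (toRep ((colRep k D n).comp φ)) fun i => e₀ i * (toRep ((colRep k D n).comp φ)).symm (f ((toRep ((colRep k D n).comp φ)) e₀)) 0 := by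
          have hpe : p • (toRep ((colRep k D n).comp φ)) e₀ = (toRep ((colRep k D n).comp φ)) e₀ := by
            rw [smul_toRep]; congr 1
            rw [AlgHom.comp_apply, hp, colRep_apply, Matrix.single_mulVec]
            funext i; by_cases hi : i = 0 <;> simp [e₀, hi]
          have h := congrArg (toRep ((colRep k D n).comp φ)).symm (f.map_smul p ((toRep ((colRep k D n).comp φ)) e₀))
          rw [hpe, toRep_symm_smul, AlgHom.comp_apply, hp, colRep_apply,
            Matrix.single_mulVec] at h
          apply (toRep ((colRep k D n).comp φ)).symm.injective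
          rw [LinearEquiv.symm_apply_apply]
          refine h.trans (funext fun i => ?_)
          by_cases hi : i = 0 <;> simp [e₀, hi]
        refine ⟨MulOpposite.op ((toRep ((colRep k D n).comp φ)).symm (f ((toRep ((colRep k D n).comp φ)) e₀)) 0), LinearMap.ext fun v => ?_⟩
        obtain ⟨r, hr⟩ := exists_smul_eq hφ (v := e₀) (by simp [e₀]) ((toRep ((colRep k D n).comp φ)).symm v)
        have hv : v = r • (toRep ((colRep k D n).comp φ)) e₀ := by
          rw [smul_toRep, hr, LinearEquiv.apply_symm_apply]
        rw [hv, map_smul, map_smul]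
        congr 1
        rw [endColHom_apply, LinearEquiv.symm_apply_apply, MulOpposite.unop_op]
        exact hfix.symm⟩

/-- `Dᵐᵒᵖ` is the endomorphism algebra of the column module. -/
noncomputable def endColEquiv [NeZero n] (hφ : Function.Surjective φ) :
    Dᵐᵒᵖ ≃ₐ[k] Module.End R (Rep ((colRep k D n).comp φ)) :=
  AlgEquiv.ofBijective (endColHom φ) (endColHom_bijective hφ)

/-- The division algebra of a simple Artinian algebra is unique. -/
theorem divisionRing_unique [FiniteDimensional k D]
    {D' : Type uD'} [DivisionRing D'] [Algebra k D'] {m : ℕ} [NeZero n] [NeZero m]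
    (e : Matrix (Fin n) (Fin n) D ≃ₐ[k] Matrix (Fin m) (Fin m) D') :
    Nonempty (D ≃ₐ[k] D') := by
  have : Nonempty (Fin n) := ⟨0⟩
  have := isArtinianRing k (Matrix (Fin n) (Fin n) D)
  have h₁ : Function.Surjective (AlgHom.id k (Matrix (Fin n) (Fin n) D)) := fun x => ⟨x, rfl⟩
  have h₂ : Function.Surjective e.toAlgHom := e.surjective
  have := isSimpleModule_col _ h₁
  have := isSimpleModule_col _ h₂
  obtain ⟨g⟩ := nonempty_linearEquiv_of_isSimpleModule (R := Matrix (Fin n) (Fin n) D)
    (Rep ((colRep k D n).comp (AlgHom.id k (Matrix (Fin n) (Fin n) D))))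
    (Rep ((colRep k D' m).comp e.toAlgHom))
  exact ⟨AlgEquiv.op.symm
    ((endColEquiv _ h₁).trans ((g.conjAlgEquiv k).trans (endColEquiv _ h₂).symm))⟩

end GrothLib.CSA
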